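import Mathlib.Algebra.Homology.Monoidal
import Mathlib.Algebra.Homology.Refinements
import Mathlib.Algebra.Homology.ShortComplex.ModuleCat
import Mathlib.Algebra.Homology.QuasiIso
import Mathlib.Algebra.Category.ModuleCat.Monoidal.Basic
import Mathlib.Algebra.Category.ModuleCat.Monoidal.Closed
import Mathlib.Algebra.Category.ModuleCat.Abelian
import Mathlib.Algebra.Category.ModuleCat.Projective
import Mathlib.CategoryTheory.Abelian.Projective.Resolution
import Mathlib.RingTheory.Flat.Basic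
import Mathlib.LinearAlgebra.TensorProduct.RightExactness

/-!
First homology of a tensor product with a resolution.
-/

set_option autoImplicit false
set_option linter.style.haveILetI false
set_option backward.isDefEq.respectTransparency false

universe v

open CategoryTheory MonoidalCategory Limits HomologicalComplex

namespace Groth.Agent.TensH1

variable {R : Type v} [CommRing R] (C : ChainComplex (ModuleCat.{v} R) ℕ)

/-- The inclusion of a summand. -/
noncomputable abbrev inc (K : ChainComplex (ModuleCat.{v} R) ℕ) (i j n : ℕ) (h : i + j = n) :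
    C.X i ⊗ K.X j ⟶ (C ⊗ K).X n :=
  ιTensorObj C K i j n h

theorem total_induction {K : ChainComplex (ModuleCat.{v} R) ℕ} {n : ℕ} (P : ((C ⊗ K).X n : ModuleCat.{v} R) → Prop)
    (h0 : P 0) (ha : ∀ x y, P x → P y → P (x + y)) (hi : ∀ i j h t, P ((inc C K i j n h).hom t)) (x) : P x := by
  let S : Submodule R ((C ⊗ K).X n : ModuleCat.{v} R) :=
    ⨆ p : {p : ℕ × ℕ // p.1 + p.2 = n}, LinearMap.range (inc C K p.1.1 p.1.2 n p.2).hom
  have hS : S = ⊤ := by
    have : ModuleCat.ofHom S.mkQ = 0 := mapBifunctor.hom_ext (fun i j h => by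
      ext1
      refine LinearMap.ext fun t => ?_
      exact (Submodule.Quotient.mk_eq_zero S).2 (Submodule.mem_iSup_of_mem ⟨(i, j), h⟩ ⟨t, rfl⟩))
    rw [← Submodule.ker_mkQ S, LinearMap.ker_eq_top]
    exact congrArg ModuleCat.Hom.hom this
  have hx : x ∈ S := hS ▸ Submodule.mem_top
  refine Submodule.iSup_induction _ (motive := P) hx ?_ h0 ha
  rintro p _ ⟨t, rfl⟩
  exact hi _ _ _ t

theorem inc_injective (K : ChainComplex (ModuleCat.{v} R) ℕ) (i j n : ℕ) (h : i + j = n) :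
    Function.Injective (inc C K i j n h).hom := by
  let p : (C ⊗ K).X n ⟶ C.X i ⊗ K.X j := mapBifunctorDesc (fun a b _ =>
    if e : a = i ∧ b = j then eqToHom (by obtain ⟨rfl, rfl⟩ := e; rfl) else 0)
  have : inc C K i j n h ≫ p = 𝟙 _ := by
    erw [ι_mapBifunctorDesc]
    simp
  intro x y hxy
  have hx := LinearMap.congr_fun (congrArg ModuleCat.Hom.hom this) x
  have hy := LinearMap.congr_fun (congrArg ModuleCat.Hom.hom this) y
  exact hx.symm.trans ((congrArg p.hom hxy).trans hy)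

variable (K : ChainComplex (ModuleCat.{v} R) ℕ)

theorem inc_d_fst (i n n' : ℕ) (h : i + 1 + 0 = n) (h' : i + 0 = n') :
    inc C K (i + 1) 0 n h ≫ (C ⊗ K).d n n' = (C.d (i + 1) i ▷ K.X 0) ≫ inc C K i 0 n' h' := by
  erw [mapBifunctor.d_eq, Preadditive.comp_add, mapBifunctor.ι_D₁, mapBifunctor.ι_D₂]
  rw [mapBifunctor.d₁_eq _ _ _ _ (show (ComplexShape.down ℕ).Rel (i + 1) i by simp) 0 n' h',
    mapBifunctor.d₂_eq_zero _ _ _ _ _ _ _ (by simp)]
  simp

theorem inc_d_snd (j n n' : ℕ) (h : 0 + (j + 1) = n) (h' : 0 + j = n') :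
    inc C K 0 (j + 1) n h ≫ (C ⊗ K).d n n' = (C.X 0 ◁ K.d (j + 1) j) ≫ inc C K 0 j n' h' := by
  erw [mapBifunctor.d_eq, Preadditive.comp_add, mapBifunctor.ι_D₁, mapBifunctor.ι_D₂]
  rw [mapBifunctor.d₁_eq_zero _ _ _ _ _ _ _ (by simp),
    mapBifunctor.d₂_eq _ _ _ _ 0 (show (ComplexShape.down ℕ).Rel (j + 1) j by simp) n' h']
  simp

theorem inc_d_both :
    inc C K 1 1 2 rfl ≫ (C ⊗ K).d 2 1 =
      (C.d 1 0 ▷ K.X 1) ≫ inc C K 0 1 1 rfl - (C.X 1 ◁ K.d 1 0) ≫ inc C K 1 0 1 rfl := by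
  erw [mapBifunctor.d_eq, Preadditive.comp_add, mapBifunctor.ι_D₁, mapBifunctor.ι_D₂]
  rw [mapBifunctor.d₁_eq _ _ _ _ (show (ComplexShape.down ℕ).Rel 1 0 by simp) 1 1 rfl,
    mapBifunctor.d₂_eq _ _ _ _ 1 (show (ComplexShape.down ℕ).Rel 1 0 by simp) 1 rfl]
  simp [sub_eq_add_neg]

variable {C K}

theorem inc_map {L : ChainComplex (ModuleCat.{v} R) ℕ} (π : K ⟶ L) (i j n : ℕ) (h : i + j = n) :
    inc C K i j n h ≫ (C ◁ π).f n = (C.X i ◁ π.f j) ≫ inc C L i j n h := by
  erw [ι_mapBifunctorMap]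
  simp

theorem elt {M N : ModuleCat.{v} R} {f g : M ⟶ N} (h : f = g) (x : M) : f.hom x = g.hom x := by rw [h]

theorem hom_ext_one {M : ModuleCat.{v} R} {f g : ModuleCat.of R R ⟶ M} (h : f.hom 1 = g.hom 1) : f = g := by
  ext; exact h

theorem res_epi {G : ModuleCat.{v} R} (res : ProjectiveResolution G) : Function.Surjective (res.π.f 0).hom :=
  (ModuleCat.epi_iff_surjective _).1 inferInstance

theorem isIso_homologyMap {P : ChainComplex (ModuleCat.{v} R) ℕ} {G : ModuleCat.{v} R}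
    [Module.Free R (C.X 0)] [∀ q, Module.Free R (P.X q)]
    (π : P ⟶ (ChainComplex.single₀ (ModuleCat.{v} R)).obj G) [QuasiIso π] :
    IsIso (HomologicalComplex.homologyMap (C ◁ π) 1) := by
  let L := (ChainComplex.single₀ (ModuleCat.{v} R)).obj G
  haveI : ∀ q, CategoryTheory.Projective (P.X q) := fun q =>
    ModuleCat.projective_of_free (Module.Free.chooseBasis R (P.X q))
  let res : ProjectiveResolution G := { complex := P, π := π }
  have hsurj : Function.Surjective (π.f 0).hom :=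
    res_epi res
  have e0 : Function.Exact (P.d 1 0).hom (π.f 0).hom :=
    (ShortComplex.ShortExact.moduleCat_exact_iff_function_exact _).1 res.exact₀
  have e1 : Function.Exact (P.d 2 1).hom (P.d 1 0).hom :=
    (ShortComplex.ShortExact.moduleCat_exact_iff_function_exact _).1 (res.exact_succ 0)
  have hL : ∀ i j, j ≠ 0 → ∀ t : (C.X i ⊗ L.X j : ModuleCat.{v} R), t = 0 := fun i j hj t => by
    have hz : IsZero (L.X j) := HomologicalComplex.isZero_single_obj_X _ _ _ _ hj
    have hid : (C.X i ◁ 𝟙 (L.X j)) = 0 := by rw [hz.eq_of_src (𝟙 (L.X j)) 0, MonoidalPreadditive.whiskerLeft_zero]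
    have := elt hid t
    rw [MonoidalCategory.whiskerLeft_id] at this
    exact this
  have hTL : ∀ n, ∀ x : ((C ⊗ L).X n : ModuleCat.{v} R), ∃ t, (inc C L n 0 n (add_zero n)).hom t = x := fun n =>
    total_induction C _ ⟨0, map_zero _⟩ (fun x y ⟨s, hs⟩ ⟨t, ht⟩ => ⟨s + t, by rw [map_add, hs, ht]⟩)
      fun i j h t => by
        rcases eq_or_ne j 0 with rfl | hj
        · obtain rfl : i = n := by omega
          exact ⟨t, rfl⟩
        · exact ⟨0, by rw [hL i j hj t, map_zero, map_zero]⟩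
  have hTP : ∀ x : ((C ⊗ P).X 1 : ModuleCat.{v} R),
      ∃ a b, (inc C P 1 0 1 rfl).hom a + (inc C P 0 1 1 rfl).hom b = x :=
    total_induction C _ ⟨0, 0, by simp⟩
      (fun x y ⟨a, b, hab⟩ ⟨a', b', hab'⟩ => ⟨a + a', b + b', by rw [map_add, map_add, ← hab, ← hab']; abel⟩)
      fun i j h t => by
        rcases i with _ | _ | i
        · obtain rfl : j = 1 := by omega
          exact ⟨0, t, by simp⟩
        · obtain rfl : j = 0 := by omega
          exact ⟨t, 0, by simp⟩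
        · omega
  have d10 : ∀ (K : ChainComplex (ModuleCat.{v} R) ℕ) t, ((C ⊗ K).d 1 0).hom ((inc C K 1 0 1 rfl).hom t) =
      (inc C K 0 0 0 rfl).hom ((C.d 1 0 ▷ K.X 0).hom t) := fun K t => elt (inc_d_fst C K 0 1 0 rfl rfl) t
  have d20 : ∀ (K : ChainComplex (ModuleCat.{v} R) ℕ) t, ((C ⊗ K).d 2 1).hom ((inc C K 2 0 2 rfl).hom t) =
      (inc C K 1 0 1 rfl).hom ((C.d 2 1 ▷ K.X 0).hom t) := fun K t => elt (inc_d_fst C K 1 2 1 rfl rfl) t
  have d01 : ∀ t, ((C ⊗ P).d 1 0).hom ((inc C P 0 1 1 rfl).hom t) =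
      (inc C P 0 0 0 rfl).hom ((C.X 0 ◁ P.d 1 0).hom t) := fun t => elt (inc_d_snd C P 0 1 0 rfl rfl) t
  have d02 : ∀ t, ((C ⊗ P).d 2 1).hom ((inc C P 0 2 2 rfl).hom t) =
      (inc C P 0 1 1 rfl).hom ((C.X 0 ◁ P.d 2 1).hom t) := fun t => elt (inc_d_snd C P 1 2 1 rfl rfl) t
  have d11 : ∀ t, ((C ⊗ P).d 2 1).hom ((inc C P 1 1 2 rfl).hom t) =
      (inc C P 0 1 1 rfl).hom ((C.d 1 0 ▷ P.X 1).hom t) - (inc C P 1 0 1 rfl).hom ((C.X 1 ◁ P.d 1 0).hom t) :=
    fun t => elt (inc_d_both C P) t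
  have dsq : ∀ x : ((C ⊗ P).X 2 : ModuleCat.{v} R), ((C ⊗ P).d 1 0).hom (((C ⊗ P).d 2 1).hom x) = 0 :=
    fun x => elt ((C ⊗ P).d_comp_d 2 1 0) x
  have hm : ∀ i j n h t, ((C ◁ π).f n).hom ((inc C P i j n h).hom t) = (inc C L i j n h).hom ((C.X i ◁ π.f j).hom t) :=
    fun i j n h t => elt (inc_map π i j n h) t
  have hnat : ∀ i i' t, (C.X i' ◁ π.f 0).hom ((C.d i i' ▷ P.X 0).hom t) = (C.d i i' ▷ L.X 0).hom ((C.X i ◁ π.f 0).hom t) :=
    fun i i' t => (elt (MonoidalCategory.whisker_exchange (C.d i i') (π.f 0)) t).symm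
  haveI : Module.Flat R (C.X 0) := inferInstance
  have t0 : ∀ i t, (C.X i ◁ π.f 0).hom t = 0 → ∃ s, (C.X i ◁ P.d 1 0).hom s = t := fun i t ht =>
    ((lTensor_exact (C.X i) e0 hsurj) t).1 ht
  have ts : ∀ i, Function.Surjective (C.X i ◁ π.f 0).hom := fun i => LinearMap.lTensor_surjective _ hsurj
  have t1 : ∀ t, (C.X 0 ◁ P.d 1 0).hom t = 0 → ∃ s, (C.X 0 ◁ P.d 2 1).hom s = t := fun t ht =>
    ((Module.Flat.lTensor_exact (C.X 0) e1) t).1 ht
  have hp : ∀ {M : ModuleCat.{v} R} (x : M), ∃ f : ModuleCat.of R R ⟶ M, f.hom 1 = x := fun x =>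
    ⟨ModuleCat.ofHom (LinearMap.toSpanSingleton R _ x), by simp⟩
  have hmono : Mono (homologyMap (C ◁ π) 1) := by
    rw [mono_homologyMap_iff_up_to_refinements _ 2 1 0 (by simp) (by simp)]
    intro A x₂ hx₂ y₁ hy
    -- elementwise lifting
    have key : ∀ a : A, ∃ z, ((C ⊗ P).d 2 1).hom z = x₂.hom a := fun a => by
      obtain ⟨p, q, hpq⟩ := hTP (x₂.hom a)
      obtain ⟨w, hw⟩ := hTL 2 (y₁.hom a)
      have h1 := elt hy a
      simp only [ModuleCat.hom_comp, LinearMap.comp_apply] at h1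
      rw [← hpq, map_add, hm, hm, hL 0 1 one_ne_zero ((C.X 0 ◁ π.f 1).hom q), map_zero, add_zero, ← hw, d20] at h1
      obtain ⟨w', hw'⟩ := ts 2 w
      obtain ⟨s, hs⟩ := t0 1 (p - (C.d 2 1 ▷ P.X 0).hom w') (by
        rw [map_sub, hnat, hw', inc_injective C L 1 0 1 rfl h1, sub_self])
      obtain ⟨r, hr⟩ : ∃ r, (C.X 0 ◁ P.d 2 1).hom r = q + (C.d 1 0 ▷ P.X 1).hom s := by
        refine t1 _ (inc_injective C P 0 0 0 rfl ?_)
        have h2 := elt hx₂ a
        simp only [ModuleCat.hom_comp, LinearMap.comp_apply] at h2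
        rw [map_zero, ← d01]
        have h3 : (inc C P 0 1 1 rfl).hom (q + (C.d 1 0 ▷ P.X 1).hom s) =
            x₂.hom a + (((C ⊗ P).d 2 1).hom ((inc C P 1 1 2 rfl).hom s) -
              ((C ⊗ P).d 2 1).hom ((inc C P 2 0 2 rfl).hom w')) := by
          rw [← hpq, d11, d20, hs, map_add, map_sub]
          abel
        rw [h3, map_add, map_sub, dsq, dsq, sub_zero, add_zero]
        exact h2
      refine ⟨(inc C P 2 0 2 rfl).hom w' - (inc C P 1 1 2 rfl).hom s + (inc C P 0 2 2 rfl).hom r, ?_⟩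
      rw [map_add, map_sub, d20, d11, d02, hr, hs, ← hpq, map_add, map_sub]
      abel
    choose z hz using key
    let π' : ModuleCat.of R (A →₀ R) ⟶ A := ModuleCat.ofHom (Finsupp.linearCombination R _root_.id)
    refine ⟨_, π', (ModuleCat.epi_iff_surjective _).2 (Finsupp.linearCombination_id_surjective R A),
      ModuleCat.ofHom (Finsupp.linearCombination R z), ?_⟩
    refine ModuleCat.hom_ext (Finsupp.lhom_ext fun a r => ?_)
    change x₂.hom (Finsupp.linearCombination R _root_.id (Finsupp.single a r)) =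
      ((C ⊗ P).d 2 1).hom (Finsupp.linearCombination R z (Finsupp.single a r))
    rw [Finsupp.linearCombination_single, Finsupp.linearCombination_single, map_smul, map_smul, hz]
    rfl
  have hepi : Epi (homologyMap (C ◁ π) 1) := by
    rw [epi_homologyMap_iff_up_to_refinements _ 2 1 0 (by simp) (by simp)]
    intro A y₂ hy₂
    have key : ∀ a : A, ∃ z, ((C ⊗ P).d 1 0).hom z = 0 ∧ ((C ◁ π).f 1).hom z = y₂.hom a := fun a => by
      obtain ⟨u, hu⟩ := hTL 1 (y₂.hom a)
      obtain ⟨p, hp'⟩ := ts 1 u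
      have h2 := elt hy₂ a
      simp only [ModuleCat.hom_comp, LinearMap.comp_apply] at h2
      rw [← hu, d10] at h2
      obtain ⟨q, hq⟩ := t0 0 (-(C.d 1 0 ▷ P.X 0).hom p) (by
        rw [map_neg, hnat, hp', inc_injective C L 0 0 0 rfl (h2.trans (map_zero _).symm), neg_zero])
      refine ⟨(inc C P 1 0 1 rfl).hom p + (inc C P 0 1 1 rfl).hom q, ?_, ?_⟩
      · rw [map_add, d10, d01, hq, map_neg, add_neg_cancel]
      · rw [map_add, hm, hm, hp', hu, hL 0 1 one_ne_zero ((C.X 0 ◁ π.f 1).hom q), map_zero, add_zero]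
    choose z hz hz' using key
    let π' : ModuleCat.of R (A →₀ R) ⟶ A := ModuleCat.ofHom (Finsupp.linearCombination R _root_.id)
    refine ⟨_, π', (ModuleCat.epi_iff_surjective _).2 (Finsupp.linearCombination_id_surjective R A),
      ModuleCat.ofHom (Finsupp.linearCombination R z), ?_, 0, ?_⟩
    · refine ModuleCat.hom_ext (Finsupp.lhom_ext fun a r => ?_)
      change ((C ⊗ P).d 1 0).hom (Finsupp.linearCombination R z (Finsupp.single a r)) = 0
      rw [Finsupp.linearCombination_single, map_smul, hz, smul_zero]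
    · rw [zero_comp, add_zero]
      refine ModuleCat.hom_ext (Finsupp.lhom_ext fun a r => ?_)
      change y₂.hom (Finsupp.linearCombination R _root_.id (Finsupp.single a r)) =
        ((C ◁ π).f 1).hom (Finsupp.linearCombination R z (Finsupp.single a r))
      rw [Finsupp.linearCombination_single, Finsupp.linearCombination_single, map_smul, map_smul, hz']
      rfl
  exact isIso_of_mono_of_epi _

end Groth.Agent.TensH1
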